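import Groth.Agent.H49.AlgSpRep
import Groth.Prelude.Def_AlgSp3

/-!
# Fixed points of a finite group acting on a separated algebraic space
-/

set_option autoImplicit false
universe u
open CategoryTheory CategoryTheory.Limits AlgebraicGeometry Opposite

namespace Groth.Agent.H64.Fix

open AlgSp

variable {S : Scheme.{u}}

/-- the equaliser of the identity and an endomorphism of a separated sheaf is a closed subsheaf -/
theorem exists_equalizer_closed {F : Sp S} (hsep : IsSeparatedSp F) (a : F ⟶ F) :
    ∃ (E : Sp S) (e : E ⟶ F), Mono e ∧ RepWith @IsClosedImmersion e ∧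
      ∀ (W : Sp S) (x : W ⟶ F), (∃ z : W ⟶ E, z ≫ e = x) ↔ x ≫ a = x := by
  let l : F ⟶ F ⨯ F := prod.lift (𝟙 F) a
  have hl1 : l ≫ prod.fst = 𝟙 F := prod.lift_fst _ _
  have hl2 : l ≫ prod.snd = a := prod.lift_snd _ _
  have hd1 : Limits.diag F ≫ prod.fst = 𝟙 F := prod.lift_fst _ _
  have hd2 : Limits.diag F ≫ prod.snd = 𝟙 F := prod.lift_snd _ _
  refine ⟨pullback l (Limits.diag F), pullback.fst l (Limits.diag F), ?_, ?_, ?_⟩
  · have : Mono (Limits.diag F) := by
      refine ⟨fun u v h => ?_⟩
      have h' := congrArg (fun k => k ≫ prod.fst) h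
      simp only [Category.assoc, hd1, Category.comp_id] at h'
      exact h'
    infer_instance
  · exact MorphismProperty.of_isPullback (P := RepWith @IsClosedImmersion)
      (IsPullback.of_hasPullback l (Limits.diag F)).flip hsep
  · intro W x
    constructor
    · rintro ⟨z, rfl⟩
      have hc := pullback.condition (f := l) (g := Limits.diag F)
      have h1 := congrArg (fun k => k ≫ prod.fst) hc
      have h2 := congrArg (fun k => k ≫ prod.snd) hc
      simp only [Category.assoc, hl1, hl2, hd1, hd2, Category.comp_id] at h1 h2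
      rw [Category.assoc, h2, ← h1]
    · intro hx
      refine ⟨pullback.lift x x ?_, pullback.lift_fst _ _ _⟩
      apply Limits.prod.hom_ext
      · rw [Category.assoc, Category.assoc, hl1, hd1]
      · rw [Category.assoc, Category.assoc, hl2, hd2, hx, Category.comp_id]

/-- finite intersections of closed subsheaves cut out by fixed point conditions -/
theorem exists_fixed_closed {F : Sp S} (hsep : IsSeparatedSp F) {G : Type u} (a : G → (F ⟶ F))
    (L : List G) :
    ∃ (E : Sp S) (e : E ⟶ F), Mono e ∧ RepWith @IsClosedImmersion e ∧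
      ∀ (W : Sp S) (x : W ⟶ F), (∃ z : W ⟶ E, z ≫ e = x) ↔ ∀ g ∈ L, x ≫ a g = x := by
  induction L with
  | nil =>
    refine ⟨F, 𝟙 F, inferInstance, (RepWith (S := S) @IsClosedImmersion).id_mem F, ?_⟩
    intro W x
    simp
  | cons g L ih =>
    obtain ⟨E', e', hm', hc', hu'⟩ := ih
    obtain ⟨E, e, hm, hc, hu⟩ := exists_equalizer_closed hsep (a g)
    refine ⟨pullback e e', pullback.snd e e' ≫ e', ?_, ?_, ?_⟩
    · infer_instance
    · refine (RepWith (S := S) @IsClosedImmersion).comp_mem _ _ ?_ hc'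
      exact MorphismProperty.of_isPullback (P := RepWith @IsClosedImmersion)
        (IsPullback.of_hasPullback e e') hc
    · intro W x
      constructor
      · rintro ⟨z, rfl⟩ g' hg'
        rcases List.mem_cons.mp hg' with rfl | hg'
        · have : ∃ z' : W ⟶ E, z' ≫ e = z ≫ pullback.snd e e' ≫ e' :=
            ⟨z ≫ pullback.fst e e', by rw [Category.assoc, pullback.condition]⟩
          exact (hu W _).mp this
        · exact (hu' W _).mp ⟨z ≫ pullback.snd e e', by rw [Category.assoc]⟩ g' hg'
      · intro hx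
        obtain ⟨z1, hz1⟩ := (hu W x).mpr (hx g (List.mem_cons_self))
        obtain ⟨z2, hz2⟩ := (hu' W x).mpr (fun g' hg' => hx g' (List.mem_cons_of_mem _ hg'))
        refine ⟨pullback.lift z1 z2 (by rw [hz1, hz2]), ?_⟩
        rw [pullback.lift_snd_assoc, hz2]

/-- the fixed point subsheaf of a finite group acting on a separated algebraic space -/
theorem fixedPoints_closed (F : Sp S) (hF : IsAlgSpace F) (hsep : IsSeparatedSp F)
    (G : Type u) [Group G] [Finite G] (ρ : G →* Aut F)
    (Z : Sp S) (i : Z ⟶ F) (hi : ∀ g : G, i ≫ (ρ g).hom = i)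
    (huniv : ∀ (W : Sp S) (x : W ⟶ F), (∀ g : G, x ≫ (ρ g).hom = x) → ∃! z : W ⟶ Z, z ≫ i = x) :
    IsAlgSpace Z ∧ RepWith @IsClosedImmersion i := by
  classical
  have := Fintype.ofFinite G
  obtain ⟨E, e, hm, hc, hu⟩ := exists_fixed_closed hsep (fun g : G => (ρ g).hom)
    (Finset.univ : Finset G).toList
  have hu' : ∀ (W : Sp S) (x : W ⟶ F), (∃ z : W ⟶ E, z ≫ e = x) ↔ ∀ g : G, x ≫ (ρ g).hom = x := by
    intro W x
    rw [hu W x]
    constructor
    · intro h g
      exact h g (Finset.mem_toList.mpr (Finset.mem_univ g))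
    · intro h g _
      exact h g
  obtain ⟨z, hz⟩ := (hu' Z i).mpr hi
  have he : ∀ g : G, e ≫ (ρ g).hom = e := (hu' E e).mp ⟨𝟙 E, Category.id_comp e⟩
  obtain ⟨z', hz', -⟩ := huniv E e he
  have h1 : z ≫ z' = 𝟙 Z := by
    obtain ⟨w, -, hw⟩ := huniv Z i hi
    have a1 := hw (z ≫ z') (by change (z ≫ z') ≫ i = i; rw [Category.assoc, hz', hz])
    have a2 := hw (𝟙 Z) (Category.id_comp i)
    rw [a1, a2]
  have h2 : z' ≫ z = 𝟙 E := by
    rw [← cancel_mono e, Category.assoc, hz, hz', Category.id_comp]
  have hiso : IsIso z := ⟨⟨z', h1, h2⟩⟩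
  have hci : RepWith @IsClosedImmersion i := by
    rw [← hz]
    exact (MorphismProperty.cancel_left_of_respectsIso (RepWith @IsClosedImmersion) z e).mpr hc
  exact ⟨Groth.Agent.H49.isAlgSpace_of_representable_to i hci.1 hF, hci⟩

end Groth.Agent.H64.Fix
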